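import Groth.Agent.CurveDeg.Linear

/-! Invertible modules on curves of genus zero. -/

set_option autoImplicit false
set_option backward.isDefEq.respectTransparency false
universe u

open CategoryTheory CategoryTheory.Limits AlgebraicGeometry TopologicalSpace Opposite

namespace Groth.Agent.CurveGenus0

open Groth.Agent.CurveDeg

variable (k : Type u) [Field k] {X : Scheme.{u}} [X.Over (Spec (CommRingCat.of k))]
  [IsIntegral X] [IsProper (X ↘ (Spec (CommRingCat.of k)))]

theorem euler_eq (hdim : topologicalKrullDim X = 1) {F : X.Modules} (hF : Coh.IsCoh F) :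
    Curv2.euler k X F = hdim' k F 0 - hdim' k F 1 := by
  rw [HilbPoly.euler_eq_sum (N := 2) fun n hn => HilbPoly.subsingleton_HH_of_dim k hF (d := 1)
    ((topologicalKrullDim_subspace_le X _).trans (by rw [hdim]; rfl)) (by omega),
    Finset.sum_range_succ, Finset.sum_range_one]
  simp [hdim', sub_eq_add_neg]

variable (hdim : topologicalKrullDim X = 1)
  (h0 : Module.finrank k (Coh.HH X (Coh.structureModule X) 0) = 1) (hg : Curv2.genus k X = 0)

include hdim h0 hg in
theorem exists_section {L : X.Modules} (hL : PicF.IsInvertible L) (hdeg : 0 ≤ Curv2.deg k X L 1) :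
    Curv2.deg k X L 1 + 1 = hdim' k L 0 - hdim' k L 1 ∧ ∃ σ : Γ(L, ⊤), σ ≠ 0 := by
  haveI := isNoetherian_of_proper (X := X) k
  have hcL := InvPow.isCoh_of_isInvertible hL
  have hcO := InvPow.isCoh_of_isInvertible (HilbPoly.isInvertible_structureModule X)
  have h1 : hdim' k (Coh.structureModule X) 0 = 1 := congrArg Nat.cast h0
  have h2 : hdim' k (Coh.structureModule X) 1 = 0 := Nat.cast_eq_zero.mpr hg
  have hd : Curv2.deg k X L 1 + 1 = Curv2.euler k X L := by
    rw [Curv2.deg, euler_eq k hdim hcO, h1, h2]; push_cast; ring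
  refine ⟨hd.trans (euler_eq k hdim hcL), exists_section_of_euler_pos k hdim.le hcL (by omega)⟩

include hdim h0 hg in
theorem finrank_eq {L : X.Modules} (hL : PicF.IsInvertible L) (d : ℕ) (hdeg : Curv2.deg k X L 1 = d) :
    Module.finrank k (Coh.HH X L 0) = d + 1 ∧ Subsingleton (Coh.HH X L 1) := by
  obtain ⟨he, hs⟩ := exists_section k hdim h0 hg hL (by omega)
  have hle := (h0_le_deg_add_one k hdim (show hdim' k (Coh.structureModule X) 0 = 1 from congrArg Nat.cast h0) hL hs).1
  haveI := isNoetherian_of_proper (X := X) k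
  haveI := HilbPoly.finite_HH (k := k) (InvPow.isCoh_of_isInvertible hL) 1
  simp only [hdim', HilbPoly.hdim] at he hle
  refine ⟨by omega, Module.finrank_zero_iff (R := k).mp (by omega)⟩

end Groth.Agent.CurveGenus0
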